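import Groth.Agent.CohDer1.SpecVanish.ZSub
import Groth.Agent.CohDer1.RLimMods.Sections
import Groth.Agent.FlatMorStrat.QcqsColim
import Mathlib.Topology.Spectral.Prespectral

/-! Vanishing on prespectral spaces from vanishing on extensions by zero. -/

set_option autoImplicit false
set_option backward.isDefEq.respectTransparency false
set_option linter.style.haveILetI false

universe u

open CategoryTheory CategoryTheory.Limits Opposite TopologicalSpace
open Groth.Agent.GVan16 Groth.Agent.SiteCoh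

namespace Groth.Agent.CohDer1.SpecVanish

variable {X : TopCat.{u}}

/-- Vanishing above `d`. -/
def Van (d : ℕ) (F : CohTop.Ab X) : Prop := ∀ p : ℕ, d < p → Subsingleton (CohTop.H F p)

variable {d : ℕ}

lemma Van.X₂ {S : ShortComplex (CohTop.Ab X)} (hS : S.ShortExact) (h₁ : Van d S.X₁) (h₃ : Van d S.X₃) :
    Van d S.X₂ := fun p hp => H_X₂ hS p (h₁ p hp) (h₃ p hp)

lemma Van.X₃ {S : ShortComplex (CohTop.Ab X)} (hS : S.ShortExact) (h₁ : Van d S.X₁) (h₂ : Van d S.X₂) :
    Van d S.X₃ := fun p hp => H_X₃ hS p (h₂ p hp) (h₁ (p + 1) (by omega))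

lemma Van.of_iso {F G : CohTop.Ab X} (e : F ≅ G) (h : Van d F) : Van d G := fun p hp => H_of_iso e (h p hp)

lemma Van.of_isZero {F : CohTop.Ab X} (h : IsZero F) : Van d F := fun p _ => H_of_isZero h p

lemma mono_zsmul {n : ℤ} (hn : n ≠ 0) : Mono (n • 𝟙 (ZC X)) := Preadditive.mono_of_kernel_zero (by
  refine Sheaf.hom_ext (NatTrans.ext (funext fun W => ?_))
  ext t
  let t' : (ZC X).obj.obj (op W.unop) := (kernel.ι (n • 𝟙 (ZC X))).hom.app W t
  have e : n • t' = 0 := by
    have := ConcreteCategory.congr_hom (NatTrans.congr_app (congrArg InducedCategory.Hom.hom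
      (kernel.condition (n • 𝟙 (ZC X)))) W) t
    simp at this
    exact this
  show t' = 0
  refine TopCat.Presheaf.section_ext (ZC X) W.unop _ 0 fun x hx => ?_
  obtain ⟨V, hV, a, hxV, hva⟩ := exists_c t' hx
  have ha : a = 0 := by
    have h1 := congrArg ((ZC X).obj.map (homOfLE hV).op).hom e
    rw [map_zsmul, map_zero] at h1
    erw [hva] at h1
    rw [c, ← map_zsmul, ← map_zero (TopIrr16.cst (ULift.{u} ℤ) V)] at h1
    have := congrArg ULift.down (TopIrr16.cst_injective (ULift.{u} ℤ) V ⟨x, hxV⟩ h1)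
    simpa [hn] using this
  rw [ha, c_zero] at hva
  rw [map_zero]
  refine (TopCat.Presheaf.germ_res_apply (ZC X).obj (homOfLE hV) x hxV t').symm.trans ?_
  exact (congrArg _ hva).trans (map_zero _))

lemma isZero_sub {G : X → AddSubgroup ℤ} (hG : ∀ x, G x = ⊥) : IsZero (sub G) :=
  isZero_of_sections fun V t => Subtype.ext (by
    refine TopCat.Presheaf.section_ext (ZC X) V _ 0 fun x hx => ?_
    obtain ⟨W, hW, a, h1, h2, h3⟩ := t.2 x hx
    have ha : a = 0 := (hG x ▸ h2 x h1 : a ∈ (⊥ : AddSubgroup ℤ))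
    rw [ha, c_zero] at h3
    rw [map_zero]
    refine (TopCat.Presheaf.germ_res_apply (ZC X).obj (homOfLE hW) x h1 t.1).symm.trans ?_
    exact (congrArg _ h3).trans (map_zero _))

lemma gU_map (n : ℤ) {U W : Opens X} (hW : W ≤ U) :
    (CohCx.freeSheafMap _ (homOfLE hW)) ≫ (n • gU U) = n • gU W := by
  rw [Preadditive.comp_zsmul, gU_eq]

lemma homEquiv_gU (n : ℤ) (W : Opens X) : homEquiv W (ZC X) (n • gU W) = c W n := by
  rw [map_zsmul, gU, AddEquiv.apply_symm_apply, ← map_zsmul]
  exact congrArg _ (ULift.ext _ _ (by simp))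

lemma van_one (U : Opens X) (n : ℤ) (hU : Van d (CohCx.freeSheaf (Opens.grothendieckTopology X) U)) :
    Van d (sub (one U n)) := by
  by_cases hn : n = 0
  · refine Van.of_isZero (isZero_sub fun x => ?_)
    subst hn
    ext a
    rw [mem_one, AddSubgroup.mem_bot, zero_dvd_iff]
    tauto
  let φ : CohCx.freeSheaf (Opens.grothendieckTopology X) U ⟶ sub (one U n) :=
    (homEquiv U (sub (one U n))).symm ⟨c U n, Mem.c_of fun y hy => mem_one.2 (.inr ⟨hy, dvd_rfl⟩)⟩
  have hφ : φ ≫ subι (one U n) = n • gU U := by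
    refine (homEquiv U (ZC X)).injective ?_
    rw [homEquiv_postcomp, homEquiv_gU, AddEquiv.apply_symm_apply]
    rfl
  haveI : Mono φ := by
    haveI := mono_zsmul (X := X) hn
    have : Mono (φ ≫ subι (one U n)) := by
      rw [hφ, ← Category.comp_id (gU U), ← Preadditive.comp_zsmul]
      infer_instance
    exact mono_of_mono φ (subι (one U n))
  haveI : Epi φ := epi_to_sub φ fun W a ha x hx => by
    rcases mem_one.1 (ha x hx) with h0 | ⟨hxU, k, hk⟩
    · refine ⟨W, le_rfl, 0, hx, ?_⟩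
      rw [map_zero, h0, c_zero]
      rfl
    · refine ⟨W ⊓ U, inf_le_left, homEquiv (W ⊓ U) _ (k • CohCx.freeSheafMap _ (homOfLE inf_le_right)), ⟨hx, hxU⟩, ?_⟩
      show (subι (one U n)).hom.app (op (W ⊓ U)) (φ.hom.app (op (W ⊓ U)) _) = _
      rw [← homEquiv_postcomp, ← homEquiv_postcomp, Category.assoc, hφ, Preadditive.zsmul_comp, gU_map, smul_smul,
        homEquiv_gU]
      rw [hk, mul_comm]
  haveI := isIso_of_mono_of_epi φ
  exact hU.of_iso (asIso φ)

section MV

variable {A B : X → AddSubgroup ℤ}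

lemma Mem.inf {V : Opens X} {t : (ZC X).obj.obj (op V)} (ha : Mem A V t) (hb : Mem B V t) :
    Mem (fun x => A x ⊓ B x) V t := fun x hx => by
  obtain ⟨W, hW, a, h1, h2, h3⟩ := ha x hx
  obtain ⟨W', hW', a', h1', h2', h3'⟩ := hb x hx
  refine ⟨W ⊓ W', inf_le_left.trans hW, a, ⟨h1, h1'⟩, fun y hy => ⟨h2 y hy.1, ?_⟩, ?_⟩
  · have e : a = a' := by
      refine c_inj (W := W ⊓ W') ⟨h1, h1'⟩ ?_
      rw [← c_res (inf_le_left : W ⊓ W' ≤ W), ← c_res (inf_le_right : W ⊓ W' ≤ W'), ← h3, ← h3', res_res, res_res]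
    exact e ▸ h2' y hy.2
  · rw [← c_res (inf_le_left : W ⊓ W' ≤ W), ← h3, res_res]

theorem van_sup (hA : OpenFam A) (hB : OpenFam B) (h₁ : Van d (sub fun x => A x ⊓ B x))
    (h₂ : Van d (sub A)) (h₃ : Van d (sub B)) : Van d (sub fun x => A x ⊔ B x) := by
  let iA : sub A ⟶ sub fun x => A x ⊔ B x := subMap fun x => le_sup_left
  let iB : sub B ⟶ sub fun x => A x ⊔ B x := subMap fun x => le_sup_right
  let jA : (sub fun x => A x ⊓ B x) ⟶ sub A := subMap fun x => inf_le_left
  let jB : (sub fun x => A x ⊓ B x) ⟶ sub B := subMap fun x => inf_le_right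
  let f : (sub fun x => A x ⊓ B x) ⟶ sub A ⊞ sub B := biprod.lift jA (-jB)
  let g : sub A ⊞ sub B ⟶ sub fun x => A x ⊔ B x := biprod.desc iA iB
  have w : f ≫ g = 0 := by
    rw [biprod.lift_desc, Preadditive.neg_comp, ← sub_eq_add_neg, sub_eq_zero]
    rfl
  haveI : Mono f := by
    haveI : Mono jA := mono_of_mono_fac (subMap_ι (G := fun x => A x ⊓ B x) (H := A) fun x => inf_le_left)
    exact mono_of_mono_fac (biprod.lift_fst jA (-jB))
  have hs : ∀ (U : Opens X) (s : (sub A ⊞ sub B).obj.obj (op U)),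
      s = (biprod.inl : sub A ⟶ sub A ⊞ sub B).hom.app (op U) ((biprod.fst : sub A ⊞ sub B ⟶ sub A).hom.app (op U) s) +
        (biprod.inr : sub B ⟶ sub A ⊞ sub B).hom.app (op U) ((biprod.snd : sub A ⊞ sub B ⟶ sub B).hom.app (op U) s) :=
    fun U s => (ConcreteCategory.congr_hom (congrArg (fun φ => φ.hom.app (op U))
      (biprod.total (X := sub A) (Y := sub B))) s).symm
  have hex : (ShortComplex.mk f g w).Exact := RLimMods.exact_of_locally _ fun U s hz => by
    refine ⟨⊤, (Opens.grothendieckTopology X).top_mem U, fun V i _ => ?_⟩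
    let a := (biprod.fst : sub A ⊞ sub B ⟶ sub A).hom.app (op U) s
    let b := (biprod.snd : sub A ⊞ sub B ⟶ sub B).hom.app (op U) s
    have hz' : g.hom.app (op U) s = 0 := hz
    rw [hs U s, map_add] at hz'
    have hab : a.1 + b.1 = 0 := by
      refine Eq.trans ?_ (congrArg Subtype.val hz')
      refine congrArg₂ (fun p q => p + q) ?_ ?_
      · exact (congrArg Subtype.val (ConcreteCategory.congr_hom (congrArg (fun φ => φ.hom.app (op U))
          (biprod.inl_desc iA iB)) a)).symm
      · exact (congrArg Subtype.val (ConcreteCategory.congr_hom (congrArg (fun φ => φ.hom.app (op U))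
          (biprod.inr_desc iA iB)) b)).symm
    have hm : Mem B U a.1 := by
      rw [eq_neg_of_add_eq_zero_left hab]
      exact (memGroup B U).neg_mem b.2
    let y : (sub fun x => A x ⊓ B x).obj.obj (op U) := ⟨a.1, a.2.inf hm⟩
    have h1 : (biprod.fst : sub A ⊞ sub B ⟶ sub A).hom.app (op U) (f.hom.app (op U) y) = a :=
      (ConcreteCategory.congr_hom (congrArg (fun φ => φ.hom.app (op U)) (biprod.lift_fst jA (-jB))) y).trans
        (Subtype.ext rfl)
    have h2 : (biprod.snd : sub A ⊞ sub B ⟶ sub B).hom.app (op U) (f.hom.app (op U) y) = b :=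
      (ConcreteCategory.congr_hom (congrArg (fun φ => φ.hom.app (op U)) (biprod.lift_snd jA (-jB))) y).trans
        (Subtype.ext ((neg_eq_of_add_eq_zero_right hab) : -a.1 = b.1))
    have h3 : f.hom.app (op U) y = s := by
      rw [hs U (f.hom.app (op U) y), h1, h2]
      exact (hs U s).symm
    refine ⟨(sub fun x => A x ⊓ B x).obj.map i.op y, ?_⟩
    exact (ConcreteCategory.congr_hom (f.hom.naturality i.op) y).trans (congrArg _ h3)
  haveI : Epi g := epi_to_sub g fun W a ha x hx => by
    obtain ⟨a₁, h₁, a₂, h₂, rfl⟩ := AddSubgroup.mem_sup.1 (ha x hx)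
    obtain ⟨W₁, hx₁, hW₁⟩ := hA x a₁ h₁
    obtain ⟨W₂, hx₂, hW₂⟩ := hB x a₂ h₂
    let W' := W ⊓ (W₁ ⊓ W₂)
    let s₁ : (sub A).obj.obj (op W') := ⟨c W' a₁, Mem.c_of fun y hy => hW₁ y hy.2.1⟩
    let s₂ : (sub B).obj.obj (op W') := ⟨c W' a₂, Mem.c_of fun y hy => hW₂ y hy.2.2⟩
    refine ⟨W', inf_le_left, (biprod.inl : sub A ⟶ sub A ⊞ sub B).hom.app (op W') s₁ +
      (biprod.inr : sub B ⟶ sub A ⊞ sub B).hom.app (op W') s₂, ⟨hx, hx₁, hx₂⟩, ?_⟩
    rw [map_add, c_add]
    refine congrArg₂ (fun p q => p + q) ?_ ?_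
    · exact congrArg Subtype.val (ConcreteCategory.congr_hom (congrArg (fun φ => φ.hom.app (op W'))
        (biprod.inl_desc iA iB)) s₁)
    · exact congrArg Subtype.val (ConcreteCategory.congr_hom (congrArg (fun φ => φ.hom.app (op W'))
        (biprod.inr_desc iA iB)) s₂)
  have h4 := Van.X₂ (ShortComplex.Splitting.ofHasBinaryBiproduct (sub A) (sub B)).shortExact h₂ h₃
  exact Van.X₃ (S := ShortComplex.mk f g w) { exact := hex } h₁ h4

end MV

variable [CompactSpace X] [PrespectralSpace X] [QuasiSeparatedSpace X]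

/-- Compact open neighbourhoods. -/
lemma exists_qc {V : Opens X} {x : X} (hx : x ∈ V) :
    ∃ W : Opens X, IsCompact (W : Set X) ∧ x ∈ W ∧ W ≤ V := by
  obtain ⟨W, ⟨hW, hWc⟩, hxW, hWV⟩ :=
    (PrespectralSpace.isTopologicalBasis (X := X)).exists_subset_of_mem_open hx V.2
  exact ⟨⟨W, hW⟩, hWc, hxW, hWV⟩

theorem Van.exhaust {G : CohTop.Ab X} {I : Type u} [Preorder I] [IsDirectedOrder I] [Nonempty I]
    (M : I → CohTop.Ab X) (m : ∀ i, M i ⟶ G) (hm : ∀ i, Mono (m i)) (t : ∀ {i j}, i ≤ j → (M i ⟶ M j))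
    (ht : ∀ {i j} (h : i ≤ j), t h ≫ m j = m i) (hM : ∀ i, Van d (M i))
    (hsurj : ∀ (V : Opens X) (s : G.obj.obj (op V)) (x : X), x ∈ V →
      ∃ (i : I) (W : Opens X) (h : W ≤ V) (y : (M i).obj.obj (op W)),
        x ∈ W ∧ (m i).hom.app (op W) y = G.obj.map (homOfLE h).op s) : Van d G := by
  haveI : IsFiltered I := { nonempty := inferInstance }
  let F : I ⥤ MonoOver G :=
    { obj := fun i => haveI := hm i; MonoOver.mk (m i)
      map := fun {i j} h => MonoOver.homMk (t (leOfHom h)) (ht _)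
      map_id := fun _ => Subsingleton.elim _ _
      map_comp := fun _ _ => Subsingleton.elim _ _ }
  haveI : HasColimitsOfSize.{u, u} (CohTop.Ab X) := IsGrothendieckAbelian.hasColimits.{u} (CohTop.Ab X)
  let D := F ⋙ MonoOver.forget G ⋙ Over.forget G
  haveI : HasColimit D := (HasColimitsOfSize.has_colimits_of_shape (C := CohTop.Ab X) I).has_colimit _
  let g : colimit D ⟶ G := colimit.desc D (Cocone.mk G
    { app := fun i => (F.obj i).obj.hom
      naturality := fun i j h => by simp [D, MonoOver.forget] })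
  haveI : Mono g := IsGrothendieckAbelian.mono_of_isColimit_monoOver F (colimit.isColimit _) g (fun i => colimit.ι_desc _ i)
  haveI : Epi g := by
    refine (Sheaf.isLocallySurjective_iff_epi' (A := AddCommGrpCat.{u}) _).1 ⟨fun {V} s x hx => ?_⟩
    obtain ⟨i, W, h, y, hxW, hy⟩ := hsurj V s x hx
    refine ⟨W, homOfLE h, ⟨(colimit.ι D i).hom.app (op W) y, ?_⟩, hxW⟩
    exact (ConcreteCategory.congr_hom (congrArg (fun φ => φ.hom.app (op W))
      (colimit.ι_desc _ i : colimit.ι D i ≫ g = m i)) y).trans hy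
  haveI := isIso_of_mono_of_epi g
  refine Van.of_iso (asIso g) fun p hp => subsingleton_of_forall_eq 0 fun x => ?_
  haveI := FlatMorStrat.preservesFilteredColimits_H (T := X) I p
  obtain ⟨j, y, hy⟩ := Concrete.isColimit_exists_rep (D ⋙ Sheaf.functorH (Opens.grothendieckTopology X) p)
    (isColimitOfPreserves (Sheaf.functorH (Opens.grothendieckTopology X) p) (colimit.isColimit D)) x
  have h0 : y = 0 := @Subsingleton.elim _ (hM j p hp) y 0
  rw [← hy, h0, map_zero]

variable (hfree : ∀ U : Opens X, IsCompact (U : Set X) → Van d (CohCx.freeSheaf (Opens.grothendieckTopology X) U))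

include hfree

theorem van_fam : ∀ (m : ℕ) (L : List (Opens X × ℤ)), L.length = m → (∀ e ∈ L, IsCompact (e.1 : Set X)) →
    Van d (sub (fam L))
  | 0, [], _, _ => Van.of_isZero (isZero_sub fun _ => rfl)
  | m + 1, e :: L, hlen, hL => by
    have hlen' : L.length = m := by simpa using hlen
    refine van_sup (openFam_one e.1 e.2) (openFam_fam L) ?_ (van_one e.1 e.2 (hfree _ (hL e List.mem_cons_self)))
      (van_fam m L hlen' fun f hf => hL f (List.mem_cons_of_mem _ hf))
    rw [show (fun x => one e.1 e.2 x ⊓ fam L x) = fam (L.map fun f => (e.1 ⊓ f.1, (Int.lcm e.2 f.2 : ℤ))) from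
      funext (inf_fam e.1 e.2 L)]
    refine van_fam m _ (by simpa using hlen') fun f hf => ?_
    obtain ⟨f', hf', rfl⟩ := List.mem_map.1 hf
    exact QuasiSeparatedSpace.inter_isCompact _ _ e.1.2 (hL e List.mem_cons_self) f'.1.2
      (hL f' (List.mem_cons_of_mem _ hf'))

omit hfree [CompactSpace X] [PrespectralSpace X] [QuasiSeparatedSpace X] in
lemma exists_lift_of_mem_fam {K : CohTop.Ab X} (ι : K ⟶ ZC X) : ∀ (L : List (Opens X × ℤ)),
    (∀ e ∈ L, ∃ s : K.obj.obj (op e.1), ι.hom.app (op e.1) s = c e.1 e.2) → ∀ (x : X) (a : ℤ), a ∈ fam L x →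
      ∃ (W : Opens X) (s : K.obj.obj (op W)), x ∈ W ∧ ι.hom.app (op W) s = c W a
  | [], _, x, a, ha => ⟨⊤, 0, trivial, by rw [map_zero, (AddSubgroup.mem_bot.1 ha : a = 0), c_zero]⟩
  | e :: L, hL, x, a, ha => by
    obtain ⟨b, hb, b', hb', rfl⟩ := AddSubgroup.mem_sup.1 ha
    obtain ⟨W, s, hxW, hs⟩ := exists_lift_of_mem_fam ι L (fun f hf => hL f (List.mem_cons_of_mem _ hf)) x b' hb'
    rcases mem_one.1 hb with rfl | ⟨hx, k, rfl⟩
    · exact ⟨W, s, hxW, by rw [hs, zero_add]⟩
    · obtain ⟨s₀, hs₀⟩ := hL e List.mem_cons_self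
      refine ⟨W ⊓ e.1, k • K.obj.map (homOfLE inf_le_right).op s₀ + K.obj.map (homOfLE inf_le_left).op s, ⟨hxW, hx⟩, ?_⟩
      rw [map_add, map_zsmul, NatTrans.naturality_apply, NatTrans.naturality_apply, hs, hs₀, c_res, c_res, c_add,
        mul_comm, c, c, ← map_zsmul]
      exact congrArg₂ _ (congrArg _ (ULift.ext _ _ (by simp))) rfl

theorem van_subsheaf {K : CohTop.Ab X} (ι : K ⟶ ZC X) [Mono ι] : Van d K := by
  classical
  let Ix := {e : Opens X × ℤ // IsCompact (e.1 : Set X) ∧ ∃ s : K.obj.obj (op e.1), ι.hom.app (op e.1) s = c e.1 e.2}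
  let L : Finset Ix → List (Opens X × ℤ) := fun S => S.toList.map Subtype.val
  have hL : ∀ S, ∀ e ∈ L S, IsCompact (e.1 : Set X) ∧ ∃ s : K.obj.obj (op e.1), ι.hom.app (op e.1) s = c e.1 e.2 :=
    fun S e he => by
      obtain ⟨e', _, rfl⟩ := List.mem_map.1 he
      exact e'.2
  have hz : ∀ S, subι (fam (L S)) ≫ cokernel.π ι = 0 := fun S => by
    refine Sheaf.hom_ext (NatTrans.ext (funext fun V => ?_))
    ext t
    refine TopCat.Presheaf.section_ext (cokernel ι) V.unop _ 0 fun x hx => ?_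
    obtain ⟨W, hW, a, h1, h2, h3⟩ := t.2 x hx
    obtain ⟨W', s, hxW', hs⟩ := exists_lift_of_mem_fam ι (L S) (fun e he => (hL S e he).2) x a (h2 x h1)
    rw [map_zero]
    refine (TopCat.Presheaf.germ_res_apply (cokernel ι).obj (homOfLE (inf_le_left.trans hW : W ⊓ W' ≤ V.unop)) x
      ⟨h1, hxW'⟩ _).symm.trans ?_
    refine (congrArg _ ?_).trans (map_zero _)
    refine (ConcreteCategory.congr_hom ((cokernel.π ι).hom.naturality (homOfLE (inf_le_left.trans hW : W ⊓ W' ≤ V.unop)).op) t.1).symm.trans ?_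
    have e1 : (ZC X).obj.map (homOfLE (inf_le_left.trans hW : W ⊓ W' ≤ V.unop)).op t.1 =
        ι.hom.app (op (W ⊓ W')) (K.obj.map (homOfLE inf_le_right).op s) := by
      rw [NatTrans.naturality_apply, hs, c_res, ← c_res (inf_le_left : W ⊓ W' ≤ W), ← h3, res_res]
    refine (congrArg _ e1).trans ?_
    exact ConcreteCategory.congr_hom (congrArg (fun φ => φ.hom.app (op (W ⊓ W'))) (cokernel.condition ι)) _
  let l : ∀ S, sub (fam (L S)) ⟶ K := fun S => Abelian.monoLift ι (subι (fam (L S))) (hz S)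
  have hl : ∀ S, l S ≫ ι = subι (fam (L S)) := fun S => Abelian.monoLift_comp _ _ _
  refine Van.exhaust (I := Finset Ix) (fun S => sub (fam (L S))) l (fun S => mono_of_mono_fac (hl S))
    (fun {S T} h => subMap (fam_mono fun e he => by
      obtain ⟨e', he', rfl⟩ := List.mem_map.1 he
      exact List.mem_map.2 ⟨e', Finset.mem_toList.2 (h (Finset.mem_toList.1 he')), rfl⟩))
    (fun {S T} h => by rw [← cancel_mono ι, Category.assoc, hl, hl, subMap_ι])
    (fun S => van_fam hfree _ _ rfl fun e he => (hL S e he).1) fun V s x hx => ?_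
  obtain ⟨W, hW, a, hxW, ha⟩ := exists_c (ι.hom.app (op V) s) hx
  obtain ⟨W', hc', hxW', hW'⟩ := exists_qc hxW
  have hs : ι.hom.app (op W') (K.obj.map (homOfLE (hW'.trans hW)).op s) = c W' a := by
    rw [NatTrans.naturality_apply, ← c_res hW', ← ha, res_res]
  let e : Ix := ⟨(W', a), hc', _, hs⟩
  have he : ∀ y ∈ W', a ∈ fam (L {e}) y := fun y hy =>
    fam_mono_mem (e := (W', a)) (List.mem_map.2 ⟨e, Finset.mem_toList.2 (Finset.mem_singleton_self e), rfl⟩) y
      (mem_one.2 (.inr ⟨hy, dvd_rfl⟩))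
  refine ⟨{e}, W', hW'.trans hW, ⟨c W' a, Mem.c_of he⟩, hxW', sections_injective ι W' ?_⟩
  rw [hs]
  exact ConcreteCategory.congr_hom (congrArg (fun φ => φ.hom.app (op W')) (hl {e})) _

theorem van_all (G : CohTop.Ab X) : Van d G := by
  classical
  let Ix := Σ U : {U : Opens X // IsCompact (U : Set X)}, G.obj.obj (op U.1)
  let f : ∀ i : Ix, CohCx.freeSheaf (Opens.grothendieckTopology X) i.1.1 ⟶ G := fun i => (homEquiv i.1.1 G).symm i.2
  let M : Finset Ix → Subobject G := fun S => S.sup fun i => imageSubobject (f i)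
  have hM : ∀ S, Van d (M S : CohTop.Ab X) := by
    intro S
    induction S using Finset.induction_on with
    | empty =>
      refine Van.of_isZero ?_
      exact IsZero.of_iso (isZero_zero _) (Subobject.botCoeIsoZero)
    | @insert i S hi ih =>
      have hle : M S ≤ M (insert i S) := Finset.sup_mono (Finset.subset_insert i S)
      have hfac : (M (insert i S)).Factors (f i) :=
        Subobject.factors_of_le _ (Finset.le_sup (f := fun j => imageSubobject (f j)) (Finset.mem_insert_self i S))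
          ((Subobject.factors_iff _ _).2 ⟨factorThruImageSubobject (f i), imageSubobject_arrow_comp _⟩)
      let m := Subobject.ofLE _ _ hle
      let q := (M (insert i S)).factorThru (f i) hfac ≫ cokernel.π m
      haveI : Epi q := Preadditive.epi_of_cancel_zero q fun {T} g hg => by
        rw [← cancel_epi (cokernel.π m), comp_zero]
        set h := cokernel.π m ≫ g with hh
        have h1 : (M (insert i S)).factorThru (f i) hfac ≫ h = 0 := by rw [hh, ← Category.assoc]; exact hg
        let N := Subobject.mk (kernel.ι h ≫ (M (insert i S)).arrow)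
        have hS : M S ≤ N := Subobject.le_mk_of_comm (kernel.lift h m (by rw [hh, cokernel.condition_assoc, zero_comp]))
          (by rw [kernel.lift_ι_assoc, Subobject.ofLE_arrow])
        have hi' : imageSubobject (f i) ≤ N :=
          imageSubobject_le_mk _ _ (kernel.lift h _ h1) (by rw [kernel.lift_ι_assoc, Subobject.factorThru_arrow])
        have hall : M (insert i S) ≤ N := by
          show (insert i S).sup _ ≤ N
          rw [Finset.sup_insert]
          exact sup_le hi' hS
        have e : Subobject.ofLE _ _ hall ≫ (Subobject.underlyingIso _).hom ≫ kernel.ι h = 𝟙 _ := by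
          rw [← cancel_mono (M (insert i S)).arrow, Category.assoc, Category.assoc, Category.id_comp,
            Subobject.underlyingIso_hom_comp_eq_mk, Subobject.ofLE_arrow]
        rw [← Category.id_comp h, ← e]
        simp
      have h5 := Van.X₃ (kernel_shortExact q) (van_subsheaf hfree (kernel.ι q ≫ gU i.1.1)) (hfree _ i.1.2)
      exact Van.X₂ (cokernel_shortExact m) ih h5
  have hmono : Monotone M := fun S T h => Finset.sup_mono h
  refine Van.exhaust (I := Finset Ix) (fun S => (M S : CohTop.Ab X)) (fun S => (M S).arrow) (fun S => inferInstance)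
    (fun {S T} h => Subobject.ofLE _ _ (hmono h)) (fun {S T} h => Subobject.ofLE_arrow _) hM fun V s x hx => ?_
  obtain ⟨W, hc, hxW, hW⟩ := exists_qc hx
  let i : Ix := ⟨⟨W, hc⟩, G.obj.map (homOfLE hW).op s⟩
  have hfac : (M {i}).Factors (f i) := Subobject.factors_of_le _
    (Finset.le_sup (f := fun j => imageSubobject (f j)) (Finset.mem_singleton_self i))
    ((Subobject.factors_iff _ _).2 ⟨factorThruImageSubobject (f i), imageSubobject_arrow_comp _⟩)
  refine ⟨{i}, W, hW, homEquiv W _ ((M {i}).factorThru (f i) hfac), hxW, ?_⟩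
  rw [← homEquiv_postcomp, Subobject.factorThru_arrow]
  exact AddEquiv.apply_symm_apply _ _

end Groth.Agent.CohDer1.SpecVanish
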