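import Groth.Agent.GVan16.Main
import Mathlib.Topology.Sheaves.SheafCondition.UniqueGluing
import Mathlib.Algebra.Group.Subgroup.ZPowers.Lemmas

/-! Subsheaves of the constant sheaf of integers given by open families of subgroups. -/

set_option autoImplicit false
set_option backward.isDefEq.respectTransparency false

universe u

open CategoryTheory CategoryTheory.Limits Opposite TopologicalSpace
open Groth.Agent.GVan16 Groth.Agent.TopIrr16 Groth.Agent.SiteCoh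

namespace Groth.Agent.CohDer1.SpecVanish

variable {X : TopCat.{u}}


/-- The constant section with integer value. -/
noncomputable def c (W : Opens X) (a : ℤ) : (ZC X).obj.obj (op W) := cst (ULift.{u} ℤ) W ⟨a⟩

lemma c_add (W : Opens X) (a b : ℤ) : c W (a + b) = c W a + c W b :=
  map_add (cst (ULift.{u} ℤ) W) ⟨a⟩ ⟨b⟩

lemma c_zero (W : Opens X) : c W 0 = 0 := map_zero (cst (ULift.{u} ℤ) W)

lemma c_neg (W : Opens X) (a : ℤ) : c W (-a) = -c W a := map_neg (cst (ULift.{u} ℤ) W) ⟨a⟩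

lemma c_res {W V : Opens X} (h : V ≤ W) (a : ℤ) : (ZC X).obj.map (homOfLE h).op (c W a) = c V a :=
  res_cst (ULift.{u} ℤ) h _

lemma c_inj {W : Opens X} {x : X} (hx : x ∈ W) {a b : ℤ} (h : c W a = c W b) : a = b :=
  congrArg ULift.down (cst_injective (ULift.{u} ℤ) W ⟨x, hx⟩ h)

lemma res_res {F : (Opens X)ᵒᵖ ⥤ AddCommGrpCat.{u}} {U V W : Opens X} (h : V ≤ U) (h' : W ≤ V) (t : F.obj (op U)) :
    F.map (homOfLE h').op (F.map (homOfLE h).op t) = F.map (homOfLE (h'.trans h)).op t :=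
  (ConcreteCategory.congr_hom (F.map_comp (homOfLE h).op (homOfLE h').op) t).symm

/-- Sections are locally constant. -/
lemma exists_c {V : Opens X} (t : (ZC X).obj.obj (op V)) {x : X} (hx : x ∈ V) :
    ∃ (W : Opens X) (h : W ≤ V) (a : ℤ), x ∈ W ∧ (ZC X).obj.map (homOfLE h).op t = c W a := by
  obtain ⟨W, f, ⟨⟨a⟩, ha⟩, hW⟩ := Presheaf.imageSieve_mem (Opens.grothendieckTopology X)
    (toSheafify (Opens.grothendieckTopology X) ((Functor.const (Opens X)ᵒᵖ).obj (AddCommGrpCat.of (ULift.{u} ℤ))))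
    (U := op V) t x hx
  exact ⟨W, f.le, a, hW, ha.symm⟩

/-- Sections with values in a family of subgroups. -/
def Mem (G : X → AddSubgroup ℤ) (V : Opens X) (t : (ZC X).obj.obj (op V)) : Prop :=
  ∀ x ∈ V, ∃ (W : Opens X) (h : W ≤ V) (a : ℤ), x ∈ W ∧ (∀ y ∈ W, a ∈ G y) ∧ (ZC X).obj.map (homOfLE h).op t = c W a

lemma Mem.mono {G H : X → AddSubgroup ℤ} (hGH : ∀ x, G x ≤ H x) {V : Opens X} {t : (ZC X).obj.obj (op V)}
    (h : Mem G V t) : Mem H V t := fun x hx => by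
  obtain ⟨W, hW, a, h1, h2, h3⟩ := h x hx
  exact ⟨W, hW, a, h1, fun y hy => hGH y (h2 y hy), h3⟩

lemma Mem.res {G : X → AddSubgroup ℤ} {V V' : Opens X} (hV : V' ≤ V) {t : (ZC X).obj.obj (op V)}
    (h : Mem G V t) : Mem G V' ((ZC X).obj.map (homOfLE hV).op t) := fun x hx => by
  obtain ⟨W, hW, a, h1, h2, h3⟩ := h x (hV hx)
  refine ⟨W ⊓ V', inf_le_right, a, ⟨h1, hx⟩, fun y hy => h2 y hy.1, ?_⟩
  rw [res_res, ← c_res (inf_le_left : W ⊓ V' ≤ W), ← h3, res_res]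

lemma Mem.c_of {G : X → AddSubgroup ℤ} {W : Opens X} {a : ℤ} (h : ∀ y ∈ W, a ∈ G y) : Mem G W (c W a) :=
  fun _ hx => ⟨W, le_rfl, a, hx, h, c_res le_rfl a⟩

/-- The subgroup of sections with values in a family. -/
noncomputable def memGroup (G : X → AddSubgroup ℤ) (V : Opens X) : AddSubgroup ((ZC X).obj.obj (op V)) where
  carrier := {t | Mem G V t}
  zero_mem' := fun x hx => ⟨V, le_rfl, 0, hx, fun y _ => (G y).zero_mem, by rw [map_zero, c_zero]⟩
  add_mem' {t t'} h h' := fun x hx => by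
    obtain ⟨W, hW, a, h1, h2, h3⟩ := h x hx
    obtain ⟨W', hW', a', h1', h2', h3'⟩ := h' x hx
    refine ⟨W ⊓ W', inf_le_left.trans hW, a + a', ⟨h1, h1'⟩, fun y hy => (G y).add_mem (h2 y hy.1) (h2' y hy.2), ?_⟩
    rw [map_add, c_add, ← c_res (inf_le_left : W ⊓ W' ≤ W), ← c_res (inf_le_right : W ⊓ W' ≤ W'), ← h3, ← h3',
      res_res, res_res]
  neg_mem' {t} h := fun x hx => by
    obtain ⟨W, hW, a, h1, h2, h3⟩ := h x hx
    exact ⟨W, hW, -a, h1, fun y hy => (G y).neg_mem (h2 y hy), by rw [map_neg, c_neg, h3]⟩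

/-- The presheaf of sections with values in a family. -/
noncomputable def subPsh (G : X → AddSubgroup ℤ) : (Opens X)ᵒᵖ ⥤ AddCommGrpCat.{u} where
  obj V := AddCommGrpCat.of (memGroup G V.unop)
  map {V V'} i := AddCommGrpCat.ofHom
    ((((ZC X).obj.map i).hom.comp (memGroup G V.unop).subtype).codRestrict (memGroup G V'.unop)
      fun t => Mem.res i.unop.le t.2)
  map_id V := by
    ext t
    exact ConcreteCategory.congr_hom ((ZC X).obj.map_id V) t.1
  map_comp i j := by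
    ext t
    exact ConcreteCategory.congr_hom ((ZC X).obj.map_comp i j) t.1

lemma isSheaf_subPsh (G : X → AddSubgroup ℤ) :
    Presheaf.IsSheaf (Opens.grothendieckTopology X) (subPsh G) := by
  refine (TopCat.Presheaf.isSheaf_iff_isSheafUniqueGluing (C := AddCommGrpCat.{u}) (subPsh G)).2 fun ι U sf hsf => ?_
  obtain ⟨s, hs, hu⟩ := (TopCat.Presheaf.isSheaf_iff_isSheafUniqueGluing (C := AddCommGrpCat.{u}) (ZC X).obj).1
    (ZC X).property U (fun i => (sf i).1) (fun i j => congrArg Subtype.val (hsf i j))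
  refine ⟨⟨s, fun x hx => ?_⟩, fun i => Subtype.ext (hs i), fun t ht => Subtype.ext (hu t.1 fun i => congrArg Subtype.val (ht i))⟩
  obtain ⟨i, hi⟩ := Opens.mem_iSup.1 hx
  obtain ⟨W, hW, a, h1, h2, h3⟩ := (sf i).2 x hi
  refine ⟨W, hW.trans (le_iSup U i), a, h1, h2, ?_⟩
  rw [← h3, ← show (ZC X).obj.map (homOfLE (le_iSup U i)).op s = (sf i).1 from hs i, res_res]

/-- The subsheaf of sections with values in a family. -/
noncomputable def sub (G : X → AddSubgroup ℤ) : CohTop.Ab X := ⟨subPsh G, isSheaf_subPsh G⟩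

/-- The inclusion. -/
noncomputable def subι (G : X → AddSubgroup ℤ) : sub G ⟶ ZC X :=
  ⟨{ app := fun V => AddCommGrpCat.ofHom (memGroup G V.unop).subtype, naturality := fun _ _ _ => rfl }⟩

instance (G : X → AddSubgroup ℤ) : Mono (subι G) := by
  haveI : ∀ V, Mono ((subι G).hom.app V) := fun V =>
    (AddCommGrpCat.mono_iff_injective _).2 Subtype.val_injective
  haveI : Mono (subι G).hom := NatTrans.mono_of_mono_app _
  exact (sheafToPresheaf _ _).mono_of_mono_map (show Mono ((sheafToPresheaf _ _).map (subι G)) from this)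

/-- Inclusions of subsheaves. -/
noncomputable def subMap {G H : X → AddSubgroup ℤ} (h : ∀ x, G x ≤ H x) : sub G ⟶ sub H :=
  ⟨{ app := fun V => AddCommGrpCat.ofHom (AddSubgroup.inclusion (fun _ ht => Mem.mono h ht :
      memGroup G V.unop ≤ memGroup H V.unop))
     naturality := fun _ _ _ => rfl }⟩

@[reassoc]
lemma subMap_ι {G H : X → AddSubgroup ℤ} (h : ∀ x, G x ≤ H x) : subMap h ≫ subι H = subι G := rfl

/-- An epimorphism to a subsheaf from local surjectivity on constants. -/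
lemma epi_to_sub {G : X → AddSubgroup ℤ} {F : CohTop.Ab X} (f : F ⟶ sub G)
    (h : ∀ (W : Opens X) (a : ℤ) (ha : ∀ y ∈ W, a ∈ G y) (x : X), x ∈ W →
      ∃ (W' : Opens X) (_ : W' ≤ W) (s : F.obj.obj (op W')), x ∈ W' ∧ (f.hom.app (op W') s).1 = c W' a) :
    Epi f := by
  refine (Sheaf.isLocallySurjective_iff_epi' (A := AddCommGrpCat.{u}) _).1 ⟨fun {V} t x hx => ?_⟩
  obtain ⟨W, hW, a, h1, h2, h3⟩ := t.2 x hx
  obtain ⟨W', hW', s, h4, h5⟩ := h W a h2 x h1
  refine ⟨W', homOfLE (hW'.trans hW), ⟨s, Subtype.ext ?_⟩, h4⟩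
  refine h5.trans ((c_res hW' a).symm.trans ?_)
  rw [← h3, res_res]
  rfl

/-- Families whose members spread to neighbourhoods. -/
def OpenFam (G : X → AddSubgroup ℤ) : Prop :=
  ∀ x a, a ∈ G x → ∃ W : Opens X, x ∈ W ∧ ∀ y ∈ W, a ∈ G y

/-- The family attached to an open and an integer. -/
noncomputable def one (U : Opens X) (n : ℤ) (x : X) : AddSubgroup ℤ :=
  haveI := Classical.dec (x ∈ U)
  if x ∈ U then AddSubgroup.zmultiples n else ⊥

lemma mem_one {U : Opens X} {n a : ℤ} {x : X} : a ∈ one U n x ↔ a = 0 ∨ x ∈ U ∧ n ∣ a := by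
  unfold one
  split <;> simp_all [Int.mem_zmultiples_iff]

/-- The family attached to a list. -/
noncomputable def fam : List (Opens X × ℤ) → X → AddSubgroup ℤ
  | [], _ => ⊥
  | e :: L, x => one e.1 e.2 x ⊔ fam L x

lemma openFam_fam : ∀ L : List (Opens X × ℤ), OpenFam (fam L)
  | [], x, a, ha => ⟨⊤, trivial, fun y _ => ha⟩
  | e :: L, x, a, ha => by
    obtain ⟨b, hb, d, hd, rfl⟩ := AddSubgroup.mem_sup.1 ha
    obtain ⟨W, hW, hW'⟩ := openFam_fam L x d hd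
    rcases mem_one.1 hb with rfl | ⟨hx, hdvd⟩
    · exact ⟨W, hW, fun y hy => by rw [zero_add]; exact AddSubgroup.mem_sup_right (hW' y hy)⟩
    · exact ⟨W ⊓ e.1, ⟨hW, hx⟩, fun y hy => AddSubgroup.add_mem_sup (mem_one.2 (.inr ⟨hy.2, hdvd⟩)) (hW' y hy.1)⟩

lemma openFam_one (U : Opens X) (n : ℤ) : OpenFam (one U n) := fun _ a ha => by
  rcases mem_one.1 ha with rfl | ⟨hx, hd⟩
  · exact ⟨⊤, trivial, fun y _ => (one U n y).zero_mem⟩
  · exact ⟨U, hx, fun y hy => mem_one.2 (.inr ⟨hy, hd⟩)⟩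

lemma fam_mono_mem {e : Opens X × ℤ} : ∀ {L : List (Opens X × ℤ)}, e ∈ L → ∀ x, one e.1 e.2 x ≤ fam L x
  | f :: L, h, x => by
    rcases List.mem_cons.1 h with rfl | h
    · exact le_sup_left
    · exact (fam_mono_mem h x).trans le_sup_right

lemma fam_le_of_forall {H : AddSubgroup ℤ} {x : X} : ∀ {L : List (Opens X × ℤ)},
    (∀ e ∈ L, one e.1 e.2 x ≤ H) → fam L x ≤ H
  | [], _ => bot_le
  | f :: L, h => sup_le (h f List.mem_cons_self) (fam_le_of_forall fun e he => h e (List.mem_cons_of_mem _ he))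

lemma fam_mono {L L' : List (Opens X × ℤ)} (h : ∀ e ∈ L, e ∈ L') (x : X) : fam L x ≤ fam L' x :=
  fam_le_of_forall fun e he => fam_mono_mem (h e he) x

lemma dvd_aux (n m l : ℕ) : Nat.gcd (Nat.lcm n m) (Nat.lcm n l) ∣ Nat.lcm n (Nat.gcd m l) := by
  rcases Nat.eq_zero_or_pos n with rfl | hn
  · simp
  refine Nat.dvd_of_mul_dvd_mul_right (Nat.pos_of_ne_zero (n := Nat.gcd n (Nat.gcd m l))
    (fun h => hn.ne' (Nat.eq_zero_of_gcd_eq_zero_left h))) ?_
  rw [Nat.mul_comm (Nat.lcm n (Nat.gcd m l)), Nat.gcd_mul_lcm]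
  refine Nat.dvd_trans (Nat.dvd_gcd (m := n * m) (n := n * l) ?_ ?_) (Nat.gcd_mul_left n m l).dvd
  · rw [← Nat.gcd_mul_lcm n m, Nat.mul_comm _ (Nat.lcm n m)]
    exact Nat.mul_dvd_mul (Nat.gcd_dvd_left _ _)
      (Nat.dvd_gcd (Nat.gcd_dvd_left _ _) ((Nat.gcd_dvd_right _ _).trans (Nat.gcd_dvd_left _ _)))
  · rw [← Nat.gcd_mul_lcm n l, Nat.mul_comm _ (Nat.lcm n l)]
    exact Nat.mul_dvd_mul (Nat.gcd_dvd_right _ _)
      (Nat.dvd_gcd (Nat.gcd_dvd_left _ _) ((Nat.gcd_dvd_right _ _).trans (Nat.gcd_dvd_right _ _)))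

/-- Subgroups of the integers form a distributive lattice. -/
lemma inf_sup_le (A B C : AddSubgroup ℤ) : A ⊓ (B ⊔ C) ≤ (A ⊓ B) ⊔ (A ⊓ C) := by
  obtain ⟨n, rfl⟩ := Int.subgroup_cyclic A
  obtain ⟨m, rfl⟩ := Int.subgroup_cyclic B
  obtain ⟨l, rfl⟩ := Int.subgroup_cyclic C
  rintro a ⟨ha, hbc⟩
  simp only [← AddSubgroup.zmultiples_eq_closure, SetLike.mem_coe] at ha
  replace ha : n ∣ a := Int.mem_zmultiples_iff.1 ha
  simp only [← AddSubgroup.zmultiples_eq_closure, SetLike.mem_coe] at hbc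
  obtain ⟨b, hb, d, hd, rfl⟩ := AddSubgroup.mem_sup.1 hbc
  rw [Int.mem_zmultiples_iff] at hb hd
  have hg : ((Int.gcd m l : ℕ) : ℤ) ∣ b + d :=
    dvd_add ((Int.gcd_dvd_left m l).trans hb) ((Int.gcd_dvd_right m l).trans hd)
  have hh : ((Int.gcd (Int.lcm n m : ℤ) (Int.lcm n l : ℤ) : ℕ) : ℤ) ∣ b + d := by
    refine Int.natCast_dvd.2 (Nat.dvd_trans ?_ (Nat.lcm_dvd (Int.natAbs_dvd_natAbs.2 ha) (Int.natCast_dvd.1 hg)))
    simp only [Int.gcd, Int.lcm, Int.natAbs_natCast]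
    exact dvd_aux _ _ _
  obtain ⟨k, hk⟩ := hh
  rw [hk, Int.gcd_eq_gcd_ab, add_mul]
  simp only [← AddSubgroup.zmultiples_eq_closure]
  refine AddSubgroup.add_mem_sup ⟨?_, ?_⟩ ⟨?_, ?_⟩ <;> refine Int.mem_zmultiples_iff.2 ?_ <;> rw [mul_assoc]
  · exact (Int.dvd_lcm_left n m).mul_right _
  · exact (Int.dvd_lcm_right n m).mul_right _
  · exact (Int.dvd_lcm_left n l).mul_right _
  · exact (Int.dvd_lcm_right n l).mul_right _

/-- Intersecting a cyclic family with a family given by a list. -/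
lemma inf_fam (U : Opens X) (n : ℤ) : ∀ (L : List (Opens X × ℤ)) (x : X),
    one U n x ⊓ fam L x = fam (L.map fun e => (U ⊓ e.1, (Int.lcm n e.2 : ℤ))) x
  | [], x => inf_bot_eq _
  | e :: L, x => by
    have h1 : one U n x ⊓ one e.1 e.2 x = one (U ⊓ e.1) (Int.lcm n e.2 : ℤ) x := by
      ext a
      rw [AddSubgroup.mem_inf, mem_one, mem_one, mem_one]
      constructor
      · rintro ⟨h | ⟨hU, hn⟩, h' | ⟨hV, hm⟩⟩ <;> first | exact .inl ‹a = 0› | exact .inr ⟨⟨hU, hV⟩, Int.coe_lcm_dvd hn hm⟩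
      · rintro (h | ⟨⟨hU, hV⟩, hd⟩)
        · exact ⟨.inl h, .inl h⟩
        · exact ⟨.inr ⟨hU, (Int.dvd_lcm_left n e.2).trans hd⟩, .inr ⟨hV, (Int.dvd_lcm_right n e.2).trans hd⟩⟩
    show one U n x ⊓ (one e.1 e.2 x ⊔ fam L x) = one (U ⊓ e.1) (Int.lcm n e.2 : ℤ) x ⊔ _
    rw [← h1, ← inf_fam U n L x]
    exact le_antisymm (inf_sup_le _ _ _) le_inf_sup

end Groth.Agent.CohDer1.SpecVanish
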